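import Groth.Agent.KrullAki.Valuation
import Mathlib

/-!
# Elliptic curves with integral `j`-invariant have potential good reduction
-/

set_option autoImplicit false
set_option linter.style.haveILetI false
set_option linter.unusedSectionVars false

open IsLocalRing Polynomial

namespace Groth.Agent.GoodRedJ

universe u

variable {R : Type u} [CommRing R] [IsDomain R] [IsDiscreteValuationRing R]
  {K : Type u} [Field K] [Algebra R K] [IsFractionRing R K]

/-- A discrete valuation ring of a finite extension dominating `R`. -/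
theorem exists_dvr (L : Type u) [Field L] [Algebra K L] [Algebra R L] [IsScalarTower R K L]
    [FiniteDimensional K L] :
    ∃ V : ValuationSubring L, IsDiscreteValuationRing V ∧ (∀ x : L, IsIntegral R x → x ∈ V) ∧
      ∀ r ∈ maximalIdeal R, algebraMap R L r ∈ V.nonunits := by
  classical
  obtain ⟨S, hS⟩ : ∃ S : Subalgebra R L, Module.Finite R S ∧
      ∀ z : L, ∃ (a : S) (r : R), r ≠ 0 ∧ z * algebraMap R L r = (a : L) := by
    obtain ⟨s, b, hb⟩ := FiniteDimensional.exists_is_basis_integral R K L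
    have hint : ∀ x ∈ Set.range b, IsIntegral R x := by rintro x ⟨i, rfl⟩; exact hb i
    let S := Algebra.adjoin R (Set.range b)
    haveI : Finite (Set.range b) := Set.finite_range b |>.to_subtype
    refine ⟨S, Module.Finite.iff_fg.2 (fg_adjoin_of_finite (Set.finite_range b) hint), fun z => ?_⟩
    obtain ⟨⟨d, hd⟩, hd'⟩ := IsLocalization.exist_integer_multiples (nonZeroDivisors R) Finset.univ fun i => b.repr z i
    choose c hc using fun i => hd' i (Finset.mem_univ i)
    refine ⟨(⟨∑ i, c i • b i, sum_mem fun i _ => Subalgebra.smul_mem _ (Algebra.subset_adjoin (Set.mem_range_self i)) _⟩ : S), d,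
      nonZeroDivisors.ne_zero hd, ?_⟩
    show z * algebraMap R L d = ∑ i, c i • b i
    conv_lhs => rw [← b.sum_repr z, Finset.sum_mul]
    refine Finset.sum_congr rfl fun i _ => ?_
    rw [← IsScalarTower.algebraMap_smul K (c i) (b i), hc, mul_comm, ← Algebra.smul_def, smul_assoc]
  obtain ⟨hfin, hfrac⟩ := hS
  let A : Subring L := S.toSubring
  haveI : IsNoetherianRing A := (IsNoetherianRing.of_finite R S :)
  haveI : Algebra.IsIntegral R S := Algebra.IsIntegral.of_finite R S
  have hinj : Function.Injective (algebraMap R L) := by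
    rw [IsScalarTower.algebraMap_eq R K L]
    exact (algebraMap K L).injective.comp (IsFractionRing.injective R K)
  haveI : Ring.KrullDimLE 1 A := by
    have h : Function.Injective (algebraMap R S) := fun x y hxy => hinj (congrArg Subtype.val hxy)
    haveI : FaithfulSMul R S := (faithfulSMul_iff_algebraMap_injective R S).2 h
    haveI : Ring.DimensionLEOne S := Ring.DimensionLEOne.of_isIntegral R S
    exact (Ring.krullDimLE_one_iff_of_noZeroDivisors.2 fun I hI hp => Ring.DimensionLEOne.maximalOfPrime hI hp :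
      Ring.KrullDimLE 1 S)
  haveI : IsFractionRing A L := IsFractionRing.of_field _ _ fun z => by
    obtain ⟨a, r, hr, he⟩ := hfrac z
    exact ⟨⟨(a : L), a.2⟩, ⟨algebraMap R L r, S.algebraMap_mem r⟩, by
      show z = (a : L) / algebraMap R L r
      rw [eq_div_iff ((map_ne_zero_iff _ hinj).2 hr), he]⟩
  obtain ⟨V, hV⟩ := (LocalSubring.range (algebraMap R L)).exists_le_valuationSubring
  have hmax : ∀ r ∈ maximalIdeal R, algebraMap R L r ∈ V.nonunits := by
    intro r hr
    rw [ValuationSubring.mem_nonunits_iff_exists_mem_maximalIdeal]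
    refine ⟨hV.1 ⟨r, rfl⟩, ?_⟩
    haveI := hV.2
    intro hu
    have h1 : IsUnit (⟨algebraMap R L r, ⟨r, rfl⟩⟩ : (LocalSubring.range (algebraMap R L)).toSubring) :=
      isUnit_of_map_unit (Subring.inclusion hV.1) _ hu
    obtain ⟨⟨_, r', rfl⟩, h2⟩ := isUnit_iff_exists_inv.1 h1
    have h3 : algebraMap R L (r * r') = algebraMap R L 1 := by
      rw [map_mul, map_one]; exact congrArg Subtype.val h2
    exact (mem_maximalIdeal r).1 hr (IsUnit.of_mul_eq_one r' (hinj h3))
  have hRV : ∀ x : L, IsIntegral R x → x ∈ V := by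
    intro x hx
    letI : Algebra R V := ((algebraMap R L).codRestrict V.toSubring fun r => hV.1 ⟨r, rfl⟩).toAlgebra
    haveI : IsScalarTower R V L := IsScalarTower.of_algebraMap_eq' rfl
    obtain ⟨y, hy⟩ := IsIntegrallyClosed.isIntegral_iff.1 (hx.tower_top (A := V))
    exact hy ▸ y.2
  refine ⟨V, KrullAki.isDiscreteValuationRing_of_le A (fun x hx => hRV x ?_) ?_, hRV, hmax⟩
  · exact (Algebra.IsIntegral.isIntegral (⟨x, hx⟩ : S)).map S.val
  · obtain ⟨ϖ, hϖ⟩ := IsDiscreteValuationRing.exists_irreducible R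
    intro htop
    have h := hmax ϖ (hϖ.maximalIdeal_eq ▸ Ideal.mem_span_singleton_self ϖ)
    rw [ValuationSubring.mem_nonunits_iff_or] at h
    rcases h with h | h
    · exact hϖ.ne_zero (hinj (by rw [h, map_zero]))
    · exact h (by rw [htop]; trivial)

/-- The Deuring form. -/
def deuring {S : Type*} [CommRing S] (a : S) : WeierstrassCurve S := ⟨a, 0, 1, 0, 0⟩

theorem deuring_Δ {S : Type*} [CommRing S] (a : S) : (deuring a).Δ = a ^ 3 - 27 := by
  simp [deuring, WeierstrassCurve.Δ, WeierstrassCurve.b₂, WeierstrassCurve.b₄, WeierstrassCurve.b₆,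
    WeierstrassCurve.b₈]
  ring

theorem deuring_c₄ {S : Type*} [CommRing S] (a : S) : (deuring a).c₄ = a * (a ^ 3 - 24) := by
  simp [deuring, WeierstrassCurve.c₄, WeierstrassCurve.b₂, WeierstrassCurve.b₄]
  ring

/-- The Legendre form. -/
def legendre {S : Type*} [CommRing S] (a : S) : WeierstrassCurve S := ⟨0, -(1 + a), 0, a, 0⟩

theorem legendre_Δ {S : Type*} [CommRing S] (a : S) : (legendre a).Δ = 16 * a ^ 2 * (a - 1) ^ 2 := by
  simp [legendre, WeierstrassCurve.Δ, WeierstrassCurve.b₂, WeierstrassCurve.b₄, WeierstrassCurve.b₆,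
    WeierstrassCurve.b₈]
  ring

theorem legendre_c₄ {S : Type*} [CommRing S] (a : S) : (legendre a).c₄ = 16 * (a ^ 2 - a + 1) := by
  simp [legendre, WeierstrassCurve.c₄, WeierstrassCurve.b₂, WeierstrassCurve.b₄]
  ring

/-- The curve models with prescribed `j` and unit discriminant at every dominating valuation ring. -/
theorem exists_model (r : R) :
    ∃ (a : AlgebraicClosure K) (E : AlgebraicClosure K → WeierstrassCurve (AlgebraicClosure K)),
      IsIntegral R a ∧ ((E a).Δ ≠ 0 ∧ (E a).c₄ ^ 3 = algebraMap R (AlgebraicClosure K) r * (E a).Δ) ∧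
      ∀ (L : IntermediateField K (AlgebraicClosure K)) (V : ValuationSubring L),
        (∀ x : L, IsIntegral R x → x ∈ V) → (∀ r ∈ maximalIdeal R, algebraMap R L r ∈ V.nonunits) →
        ∀ ha : a ∈ L, ∃ E₀ : WeierstrassCurve V, IsUnit E₀.Δ ∧
          E₀.map ((algebraMap L (AlgebraicClosure K)).comp V.subtype) = E a := by
  set Ω := AlgebraicClosure K
  have hinj : Function.Injective (algebraMap R Ω) := by
    rw [IsScalarTower.algebraMap_eq R K Ω]
    exact (algebraMap K Ω).injective.comp (IsFractionRing.injective R K)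
  have hroot : ∀ P : R[X], P.Monic → 0 < P.natDegree → ∃ a : Ω, IsIntegral R a ∧ aeval a P = 0 := by
    intro P hP hd
    obtain ⟨a, ha⟩ := IsAlgClosed.exists_eval₂_eq_zero_of_injective (algebraMap R Ω) hinj P
      (by rw [degree_eq_natDegree hP.ne_zero]; exact_mod_cast hd.ne')
    exact ⟨a, ⟨P, hP, ha⟩, ha⟩
  by_cases h3 : IsUnit (3 : R)
  · set P : R[X] := X ^ 3 * (X ^ 3 - C 24) ^ 3 - C r * (X ^ 3 - C 27) with hPdef
    have hm1 : (X ^ 3 * (X ^ 3 - C 24) ^ 3 : R[X]).Monic :=
      (monic_X_pow 3).mul ((monic_X_pow_sub_C 24 (by norm_num)).pow 3)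
    have hd1 : (X ^ 3 * (X ^ 3 - C 24) ^ 3 : R[X]).natDegree = 12 := by
      rw [Monic.natDegree_mul (monic_X_pow 3) ((monic_X_pow_sub_C 24 (by norm_num)).pow 3), natDegree_X_pow,
        Monic.natDegree_pow (monic_X_pow_sub_C 24 (by norm_num)), natDegree_X_pow_sub_C]
    have hd2 : (C r * (X ^ 3 - C 27) : R[X]).natDegree ≤ 3 := by
      refine natDegree_C_mul_le _ _ |>.trans ?_
      rw [natDegree_X_pow_sub_C]
    have hlt : (C r * (X ^ 3 - C 27) : R[X]).degree < (X ^ 3 * (X ^ 3 - C 24) ^ 3 : R[X]).degree := by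
      rw [degree_eq_natDegree hm1.ne_zero, hd1]
      exact degree_le_natDegree.trans_lt (by exact_mod_cast (show (C r * (X ^ 3 - C 27) : R[X]).natDegree < 12 by omega))
    obtain ⟨a, hai, ha⟩ := hroot P (hm1.sub_of_left hlt) (by
      rw [hPdef, natDegree_sub_eq_left_of_natDegree_lt (by omega), hd1]; norm_num)
    have heq : a ^ 3 * (a ^ 3 - 24) ^ 3 = algebraMap R Ω r * (a ^ 3 - 27) := by
      simpa [hPdef, sub_eq_zero, map_ofNat] using ha
    have hne : (3 : Ω) ≠ 0 := by
      have := (h3.map (algebraMap R Ω)).ne_zero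
      rwa [map_ofNat] at this
    refine ⟨a, deuring, hai, ⟨?_, ?_⟩, fun L V hV hVm haL => ?_⟩
    · rw [deuring_Δ]
      intro h0
      rw [h0, mul_zero, show a ^ 3 - 24 = (3 : Ω) by linear_combination h0] at heq
      rcases mul_eq_zero.1 heq with h | h
      · rw [h, zero_sub, neg_eq_zero] at h0
        exact hne (pow_eq_zero_iff (n := 3) (by norm_num) |>.1 (by rw [← h0]; norm_num))
      · exact hne (pow_eq_zero_iff (by norm_num) |>.1 h)
    · rw [deuring_Δ, deuring_c₄, mul_pow]
      exact heq
    · have haV : (⟨a, haL⟩ : L) ∈ V :=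
        hV _ ((isIntegral_algHom_iff (L.val.restrictScalars R) L.val.toRingHom.injective).1 hai)
      refine ⟨deuring ⟨⟨a, haL⟩, haV⟩, ?_, by simp [deuring, WeierstrassCurve.map]⟩
      rw [deuring_Δ]
      set A : V := ⟨⟨a, haL⟩, haV⟩
      have hφ : Function.Injective ((algebraMap L Ω).comp V.subtype) :=
        (algebraMap L Ω).injective.comp Subtype.val_injective
      by_contra hnu
      have hP : A ^ 3 - 27 ∈ maximalIdeal V := hnu
      have h3u : IsUnit (3 : V) := by
        have := h3.map ((algebraMap R L).codRestrict V.toSubring fun x => hV _ isIntegral_algebraMap)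
        rwa [map_ofNat] at this
      have hA : A ^ 3 * (A ^ 3 - 24) ^ 3 ∈ maximalIdeal V := by
        have e : A ^ 3 * (A ^ 3 - 24) ^ 3 = (⟨algebraMap R L r, hV _ isIntegral_algebraMap⟩ : V) * (A ^ 3 - 27) :=
          hφ (by simp only [map_mul, map_pow, map_sub, map_add, map_one, map_ofNat]; exact heq)
        rw [e]
        exact Ideal.mul_mem_left _ _ hP
      have hnot : (3 : V) ∉ maximalIdeal V := fun h => h h3u
      rcases (maximalIdeal.isMaximal V).isPrime.mem_or_mem hA with h | h
      · have h27 : (27 : V) ∈ maximalIdeal V := by simpa using sub_mem h hP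
        rw [show (27 : V) = 3 ^ 3 by norm_num] at h27
        exact hnot ((maximalIdeal.isMaximal V).isPrime.mem_of_pow_mem 3 h27)
      · have h' := (maximalIdeal.isMaximal V).isPrime.mem_of_pow_mem 3 h
        exact hnot (by simpa using (show (3 : V) = (A ^ 3 - 24) - (A ^ 3 - 27) by ring) ▸ sub_mem h' hP)
  · -- `2` is a unit
    have h2 : IsUnit (2 : R) := by
      by_contra h2
      have h3' : (3 : R) ∈ maximalIdeal R := h3
      have h2' : (2 : R) ∈ maximalIdeal R := h2
      exact (maximalIdeal.isMaximal R).ne_top ((Ideal.eq_top_iff_one _).2 (by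
        rw [show (1 : R) = 3 - 2 by norm_num]; exact sub_mem h3' h2'))
    obtain ⟨u, hu⟩ := h2.pow 8
    set c : R := r * (↑u⁻¹ : R)
    set P : R[X] := (X ^ 2 - X + 1) ^ 3 - C c * (X ^ 2 * (X - 1) ^ 2) with hPdef
    have hmQ : (X ^ 2 - X + 1 : R[X]).Monic := by monicity!
    have hdQ : (X ^ 2 - X + 1 : R[X]).natDegree = 2 := by compute_degree!
    have hd1 : ((X ^ 2 - X + 1) ^ 3 : R[X]).natDegree = 6 := by rw [hmQ.natDegree_pow, hdQ]
    have hd2 : (C c * (X ^ 2 * (X - 1) ^ 2) : R[X]).natDegree ≤ 4 := by compute_degree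
    have hlt : (C c * (X ^ 2 * (X - 1) ^ 2) : R[X]).degree < ((X ^ 2 - X + 1) ^ 3 : R[X]).degree := by
      rw [degree_eq_natDegree (hmQ.pow 3).ne_zero, hd1]
      exact degree_le_natDegree.trans_lt
        (by exact_mod_cast (show (C c * (X ^ 2 * (X - 1) ^ 2) : R[X]).natDegree < 6 by omega))
    obtain ⟨a, hai, ha⟩ := hroot P ((hmQ.pow 3).sub_of_left hlt) (by
      rw [hPdef, natDegree_sub_eq_left_of_natDegree_lt (by omega), hd1]; norm_num)
    have hu256 : algebraMap R Ω ↑u = 256 := by rw [hu, map_pow, map_ofNat]; norm_num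
    have heq : 256 * (a ^ 2 - a + 1) ^ 3 = algebraMap R Ω r * (a ^ 2 * (a - 1) ^ 2) := by
      have h : (a ^ 2 - a + 1) ^ 3 = algebraMap R Ω c * (a ^ 2 * (a - 1) ^ 2) := by
        simpa [hPdef, sub_eq_zero] using ha
      rw [h, ← hu256, ← mul_assoc, ← map_mul, show (u : R) * c = r by rw [show c = r * ↑u⁻¹ from rfl, mul_comm r, Units.mul_inv_cancel_left]]
    have hne2 : (2 : Ω) ≠ 0 := by
      have := (h2.map (algebraMap R Ω)).ne_zero
      rwa [map_ofNat] at this
    refine ⟨a, legendre, hai, ⟨?_, ?_⟩, fun L V hV hVm haL => ?_⟩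
    · rw [legendre_Δ]
      intro h0
      have hne16 : (16 : Ω) ≠ 0 := by rw [show (16 : Ω) = 2 ^ 4 by norm_num]; exact pow_ne_zero _ hne2
      have hne256 : (256 : Ω) ≠ 0 := by rw [show (256 : Ω) = 2 ^ 8 by norm_num]; exact pow_ne_zero _ hne2
      rw [mul_assoc, mul_eq_zero] at h0
      have h00 := h0.resolve_left hne16
      rw [h00, mul_zero, mul_eq_zero] at heq
      have hq := pow_eq_zero_iff (n := 3) (by norm_num) |>.1 (heq.resolve_left hne256)
      rcases mul_eq_zero.1 h00 with h | h
      · rw [pow_eq_zero_iff (by norm_num)] at h; subst h; norm_num at hq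
      · rw [pow_eq_zero_iff (by norm_num), sub_eq_zero] at h; subst h; norm_num at hq
    · rw [legendre_Δ, legendre_c₄]
      linear_combination (16 : Ω) * heq
    · have haV : (⟨a, haL⟩ : L) ∈ V :=
        hV _ ((isIntegral_algHom_iff (L.val.restrictScalars R) L.val.toRingHom.injective).1 hai)
      refine ⟨legendre ⟨⟨a, haL⟩, haV⟩, ?_, by simp [legendre, WeierstrassCurve.map]⟩
      rw [legendre_Δ]
      set A : V := ⟨⟨a, haL⟩, haV⟩
      have hφ : Function.Injective ((algebraMap L Ω).comp V.subtype) :=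
        (algebraMap L Ω).injective.comp Subtype.val_injective
      have h2u : IsUnit (2 : V) := by
        have := h2.map ((algebraMap R L).codRestrict V.toSubring fun x => hV _ isIntegral_algebraMap)
        rwa [map_ofNat] at this
      have h256 : IsUnit (256 : V) := by rw [show (256 : V) = 2 ^ 8 by norm_num]; exact h2u.pow 8
      have h16 : IsUnit (16 : V) := by rw [show (16 : V) = 2 ^ 4 by norm_num]; exact h2u.pow 4
      have e : 256 * (A ^ 2 - A + 1) ^ 3 =
          (⟨algebraMap R L r, hV _ isIntegral_algebraMap⟩ : V) * (A ^ 2 * (A - 1) ^ 2) :=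
        hφ (by simp only [map_mul, map_pow, map_sub, map_add, map_one, map_ofNat]; exact heq)
      have key : A ^ 2 * (A - 1) ^ 2 ∉ maximalIdeal V := by
        intro hP
        have hq : A ^ 2 - A + 1 ∈ maximalIdeal V := by
          have h := (Ideal.mul_mem_left (maximalIdeal V) (⟨algebraMap R L r, hV _ isIntegral_algebraMap⟩ : V) hP)
          rw [← e] at h
          exact (maximalIdeal.isMaximal V).isPrime.mem_of_pow_mem 3 ((Ideal.unit_mul_mem_iff_mem _ h256).1 h)
        refine (maximalIdeal.isMaximal V).ne_top ((Ideal.eq_top_iff_one _).2 ?_)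
        rcases (maximalIdeal.isMaximal V).isPrime.mem_or_mem hP with h | h <;>
          have h' := (maximalIdeal.isMaximal V).isPrime.mem_of_pow_mem 2 h
        · rw [show (1 : V) = (A ^ 2 - A + 1) - A * A + A by ring]
          exact add_mem (sub_mem hq (Ideal.mul_mem_left _ _ h')) h'
        · rw [show (1 : V) = (A ^ 2 - A + 1) - A * (A - 1) by ring]
          exact sub_mem hq (Ideal.mul_mem_left _ _ h')
      rw [mul_assoc]
      exact h16.mul (notMem_maximalIdeal.1 key)

end Groth.Agent.GoodRedJ
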